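import Cfsg.Agent.H74.Quat.Core
import Cfsg.Agent.S2119

/-!
# An involution inducing an outer automorphism on a double cover of `A₇`

An odd involution of `S₇` commutes with a 5-cycle or a product of two 3-cycles, and neither of these
commutes with an even involution.
-/

set_option autoImplicit false
set_option linter.style.haveILetI false
set_option linter.unusedSectionVars false

namespace Cfsg.Agent.H74.Quat

open Subgroup Equiv

/-- No even involution commutes with `σ₀`, by the order of its centralizer. -/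
theorem no_even_involution {π₀ σ₀ : Perm (Fin 7)} (hsign : Perm.sign π₀ = -1) (hc : π₀ * σ₀ = σ₀ * π₀)
    (h4 : ¬ 4 ∣ Nat.card (centralizer ({σ₀} : Set (Perm (Fin 7))))) {x : Perm (Fin 7)}
    (hx : Perm.sign x = 1) (hxx : x * x = 1) (hxc : x * σ₀ = σ₀ * x) : x = 1 := by
  haveI : Fact (Nat.Prime 2) := ⟨Nat.prime_two⟩
  by_contra hx1
  let s : ↥(centralizer ({σ₀} : Set (Perm (Fin 7)))) →* ℤˣ := Perm.sign.comp (Subgroup.subtype _)
  have hs : Function.Surjective s := by
    intro u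
    rcases Int.units_eq_one_or u with rfl | rfl
    · exact ⟨1, map_one s⟩
    · exact ⟨⟨π₀, mem_centralizer_singleton_iff.2 hc⟩, hsign⟩
  have hcard := Subgroup.card_eq_card_quotient_mul_card_subgroup s.ker
  rw [Nat.card_congr (QuotientGroup.quotientKerEquivOfSurjective s hs).toEquiv,
    Nat.card_eq_fintype_card (α := ℤˣ), Fintype.card_units_int] at hcard
  let y : ↥s.ker := ⟨⟨x, mem_centralizer_singleton_iff.2 hxc⟩, hx⟩
  have hy : orderOf y = 2 := by
    refine orderOf_eq_prime ?_ fun h => hx1 (congrArg (fun t : ↥s.ker => ((t : ↥(centralizer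
      ({σ₀} : Set (Perm (Fin 7))))) : Perm (Fin 7))) h)
    rw [pow_two]
    exact Subtype.ext (Subtype.ext hxx)
  obtain ⟨r, hr⟩ : 2 ∣ Nat.card s.ker := hy ▸ orderOf_dvd_natCard y
  exact h4 ⟨r, by rw [hcard, hr]; ring⟩

/-- Two permutations for the two classes of odd involutions. -/
theorem partner_one :
    ∃ σ₀ : Perm (Fin 7), Perm.sign σ₀ = 1 ∧ swap (0 : Fin 7) 1 * σ₀ = σ₀ * swap 0 1 ∧ σ₀ ^ 5 = 1 ∧
      ¬ 4 ∣ Nat.card (centralizer ({σ₀} : Set (Perm (Fin 7)))) := by
  refine ⟨[(2 : Fin 7), 3, 4, 5, 6].formPerm, by decide +kernel, by decide +kernel, by decide +kernel, ?_⟩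
  rw [Perm.nat_card_centralizer,
    show ([(2 : Fin 7), 3, 4, 5, 6].formPerm).cycleType = {5} by decide +kernel]
  decide

theorem partner_three :
    ∃ σ₀ : Perm (Fin 7), Perm.sign σ₀ = 1 ∧
      swap (0 : Fin 7) 1 * swap 2 3 * swap 4 5 * σ₀ = σ₀ * (swap 0 1 * swap 2 3 * swap 4 5) ∧
      σ₀ ^ 3 = 1 ∧ ¬ 4 ∣ Nat.card (centralizer ({σ₀} : Set (Perm (Fin 7)))) := by
  refine ⟨[(0 : Fin 7), 2, 4].formPerm * [(1 : Fin 7), 3, 5].formPerm, by decide +kernel,
    by decide +kernel, by decide +kernel, ?_⟩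
  rw [Perm.nat_card_centralizer,
    show ([(0 : Fin 7), 2, 4].formPerm * [(1 : Fin 7), 3, 5].formPerm).cycleType = {3, 3} by
      decide +kernel]
  decide

/-- Every odd involution has a partner. -/
theorem exists_partner {π : Perm (Fin 7)} (h2 : π * π = 1) (hsign : Perm.sign π = -1) :
    ∃ σ : Perm (Fin 7), Perm.sign σ = 1 ∧ π * σ = σ * π ∧ Odd (orderOf σ) ∧
      ∀ x, Perm.sign x = 1 → x * x = 1 → x * σ = σ * x → x = 1 := by
  have hne : π ≠ 1 := fun h => by rw [h, map_one] at hsign; exact absurd hsign (by decide)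
  have hord : orderOf π = 2 := orderOf_eq_prime (by rw [pow_two, h2]) hne
  obtain ⟨n, hn⟩ := Perm.cycleType_prime_order (σ := π) (hord ▸ Nat.prime_two)
  rw [hord] at hn
  have hle := Perm.sum_cycleType_le π
  rw [hn, Multiset.sum_replicate, smul_eq_mul, Fintype.card_fin] at hle
  have hs := Perm.sign_of_cycleType π
  rw [hn, Multiset.sum_replicate, Multiset.card_replicate, smul_eq_mul, hsign] at hs
  obtain ⟨π₀, σ₀, N, hN, hct, hs0, hc0, hσN, hcard⟩ : ∃ (π₀ σ₀ : Perm (Fin 7)) (N : ℕ), Odd N ∧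
      π₀.cycleType = π.cycleType ∧ Perm.sign σ₀ = 1 ∧ π₀ * σ₀ = σ₀ * π₀ ∧ σ₀ ^ N = 1 ∧
      ¬ 4 ∣ Nat.card (centralizer ({σ₀} : Set (Perm (Fin 7)))) := by
    rcases (show n = 0 ∨ n = 1 ∨ n = 2 by omega) with rfl | rfl | rfl
    · obtain ⟨σ₀, h⟩ := partner_one
      exact ⟨_, σ₀, 5, by decide, by rw [hn]; decide +kernel, h⟩
    · exact absurd hs (by decide)
    · obtain ⟨σ₀, h⟩ := partner_three
      exact ⟨_, σ₀, 3, by decide, by rw [hn]; decide +kernel, h⟩
  obtain ⟨c, rfl⟩ := isConj_iff.1 (Perm.isConj_iff_cycleType_eq.2 hct)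
  have hsign0 : Perm.sign π₀ = -1 := by
    simpa [map_mul, map_inv, mul_comm, mul_left_comm] using hsign
  refine ⟨c * σ₀ * c⁻¹, by simp [map_mul, map_inv, hs0], ?_, ?_, ?_⟩
  · rw [show c * π₀ * c⁻¹ * (c * σ₀ * c⁻¹) = c * (π₀ * σ₀) * c⁻¹ by group, hc0]
    group
  · exact hN.of_dvd_nat (orderOf_dvd_of_pow_eq_one (by rw [conj_pow, hσN, mul_one, mul_inv_cancel]))
  · intro x hx hxx hxc
    have h : c⁻¹ * x * c = 1 := no_even_involution hsign0 hc0 hcard
      (by simp [map_mul, map_inv, hx, mul_comm])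
      (by rw [show c⁻¹ * x * c * (c⁻¹ * x * c) = c⁻¹ * (x * x) * c by group, hxx, mul_one, inv_mul_cancel])
      (by
        rw [show c⁻¹ * x * c * σ₀ = c⁻¹ * (x * (c * σ₀ * c⁻¹)) * c by group, hxc]
        group)
    calc x = c * (c⁻¹ * x * c) * c⁻¹ := by group
      _ = 1 := by rw [h, mul_one, mul_inv_cancel]

variable {H : Type*} [Group H] [Finite H] {K : Subgroup H} [K.Normal]

/-- What is needed from the double cover. -/
theorem exists_element_alt [Group.IsPerfect ↥K] (f : ↥K ⧸ center ↥K ≃* alternatingGroup (Fin 7))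
    {z w : H} (hzK : z ∈ K) (hz : z * z = 1) (hz1 : z ≠ 1) (hzc : ∀ h, Commute z h)
    (hcent : ∀ h : H, (∀ l ∈ K, Commute l h) → h = 1 ∨ h = z)
    (hone : ∀ x ∈ K, x * x = 1 → x = 1 ∨ x = z) (hw : w * w = 1) (hwK : w ∉ K) :
    ∃ e ∈ K, Odd (orderOf e) ∧ Commute w e ∧ (∀ x ∈ K, x * x = z → ¬ Commute e x) ∧
      ∃ x ∈ K, x ^ 8 = 1 ∧ x ^ 4 ≠ 1 := by
  classical
  have hcen : ∀ k : ↥K, k ∈ center ↥K ↔ (k : H) = 1 ∨ (k : H) = z := by
    intro k
    constructor
    · intro hk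
      exact hcent k fun l hl => congrArg Subtype.val (mem_center_iff.1 hk ⟨l, hl⟩)
    · rintro (h | h)
      · rw [show k = 1 from Subtype.ext h]
        exact one_mem _
      · exact mem_center_iff.2 fun l => Subtype.ext (by
          show (l : H) * k = k * l
          rw [h]; exact (hzc l).eq.symm)
  let pr : ↥K →* Perm (Fin 7) :=
    (alternatingGroup (Fin 7)).subtype.comp (f.toMonoidHom.comp (QuotientGroup.mk' (center ↥K)))
  have hpr : ∀ k : ↥K, pr k = 1 ↔ (k : H) = 1 ∨ (k : H) = z := fun k => by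
    rw [← hcen, ← QuotientGroup.eq_one_iff]
    constructor
    · intro h
      exact f.injective (by rw [map_one]; exact Subtype.ext h)
    · intro h
      show ((f (k : ↥K ⧸ center ↥K) : alternatingGroup (Fin 7)) : Perm (Fin 7)) = 1
      rw [h, map_one]; rfl
  have hprsign : ∀ k : ↥K, Perm.sign (pr k) = 1 := fun k =>
    Perm.mem_alternatingGroup.1 (f (k : ↥K ⧸ center ↥K)).2
  have hsurj : ∀ t : Perm (Fin 7), Perm.sign t = 1 → ∃ k, pr k = t := fun t ht => by
    obtain ⟨k, hk⟩ := QuotientGroup.mk'_surjective (center ↥K) (f.symm ⟨t, Perm.mem_alternatingGroup.2 ht⟩)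
    exact ⟨k, by
      show ((f (QuotientGroup.mk' (center ↥K) k) : alternatingGroup (Fin 7)) : Perm (Fin 7)) = t
      rw [hk, f.apply_symm_apply]⟩
  let φ : MulAut ↥K := MulAut.conjNormal w
  have hmap : (center ↥K).map φ.toMonoidHom = center ↥K :=
    Subgroup.characteristic_iff_map_eq.1 inferInstance φ
  let α : MulAut (alternatingGroup (Fin 7)) :=
    (f.symm.trans (QuotientGroup.congr (center ↥K) (center ↥K) φ hmap)).trans f
  obtain ⟨π, hπ⟩ := (S2119.result 7 (by norm_num) (by norm_num)).2 α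
  have hprφ : ∀ k : ↥K, pr (φ k) = π * pr k * π⁻¹ := fun k => by
    have h := congrArg Subtype.val (DFunLike.congr_fun hπ (f (k : ↥K ⧸ center ↥K)))
    rw [MulAut.conjNormal_apply] at h
    refine Eq.trans ?_ h.symm
    show ((f _ : alternatingGroup (Fin 7)) : Perm (Fin 7)) = _
    simp only [α, MulEquiv.trans_apply, f.symm_apply_apply]
    rfl
  have hπsign : Perm.sign π = -1 := by
    refine (Int.units_eq_one_or _).resolve_left fun h1 => hwK ?_
    obtain ⟨k₀, hk₀⟩ := hsurj π h1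
    have heq := eq_of_agree_mod_center (a := φ.toMonoidHom) (b := (MulAut.conj k₀).toMonoidHom)
      fun x => (hcen _).2 ((hpr _).1 (by
        show pr ((k₀ * x * k₀⁻¹)⁻¹ * φ x) = 1
        rw [map_mul, map_inv, hprφ, map_mul, map_mul, map_inv, hk₀, inv_mul_cancel]))
    have hl : ∀ l ∈ K, Commute l ((k₀ : H)⁻¹ * w) := fun l hl => by
      have h1 := congrArg Subtype.val (DFunLike.congr_fun heq ⟨l, hl⟩)
      change w * l * w⁻¹ = (k₀ : H) * l * (k₀ : H)⁻¹ at h1
      rw [mul_inv_eq_iff_eq_mul] at h1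
      show l * ((k₀ : H)⁻¹ * w) = (k₀ : H)⁻¹ * w * l
      rw [mul_assoc _ w l, h1]
      group
    have hmem : (k₀ : H)⁻¹ * w ∈ K := by
      rcases hcent _ hl with h | h
      · rw [h]; exact one_mem K
      · rw [h]; exact hzK
    have := mul_mem k₀.2 hmem
    rwa [mul_inv_cancel_left] at this
  have hππ : π * π = 1 := by
    refine (S2119.result 7 (by norm_num) (by norm_num)).1 ?_
    rw [map_mul, hπ, map_one]
    refine MulEquiv.ext fun t => ?_
    obtain ⟨k, hk⟩ := QuotientGroup.mk'_surjective (center ↥K) (f.symm t)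
    have h2 : φ (φ k) = k := by
      show (φ * φ) k = k
      rw [show φ * φ = 1 by simp only [φ, ← map_mul, hw, map_one]]
      rfl
    show α (α t) = t
    simp only [α, MulEquiv.trans_apply, f.symm_apply_apply, ← hk]
    refine (congrArg f (show _ = QuotientGroup.mk' (center ↥K) k from
      congrArg (QuotientGroup.mk' (center ↥K)) h2)).trans ?_
    rw [hk, f.apply_symm_apply]
  obtain ⟨σ, hσs, hσc, hσo, hσx⟩ := exists_partner hππ hπsign
  obtain ⟨u, hu⟩ := hsurj σ hσs
  set o := orderOf σ with ho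
  obtain ⟨r, hr⟩ := hσo
  have hu2 : u ^ (2 * o) = 1 := by
    rw [mul_comm, pow_mul]
    rcases (hpr (u ^ o)).1 (by rw [map_pow, hu, ho, pow_orderOf_eq_one]) with h | h
    · rw [show u ^ o = 1 from Subtype.ext h, one_pow]
    · exact Subtype.ext (by rw [Subgroup.coe_pow, h, pow_two, hz, Subgroup.coe_one])
  set e := u ^ (o + 1) with he
  have hpe : pr e = σ := by rw [he, map_pow, hu, ho, pow_succ, pow_orderOf_eq_one, one_mul]
  have heo : e ^ o = 1 := by
    rw [he, ← pow_mul, show (o + 1) * o = 2 * o * (r + 1) by rw [hr]; ring, pow_mul, hu2, one_pow]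
  have heo' : (e : H) ^ o = 1 := by rw [← Subgroup.coe_pow, heo, Subgroup.coe_one]
  have hzo : z ^ o = z := by rw [hr, pow_succ, pow_mul, pow_two, hz, one_pow, one_mul]
  have hwe : Commute w (e : H) := by
    have hd : pr (φ e * e⁻¹) = 1 := by rw [map_mul, map_inv, hprφ, hpe, hσc, mul_inv_cancel_right, mul_inv_cancel]
    have hval : ((φ e * e⁻¹ : ↥K) : H) = w * e * w⁻¹ * (e : H)⁻¹ := rfl
    rcases (hpr _).1 hd with h | h
    · rw [hval, mul_inv_eq_one, mul_inv_eq_iff_eq_mul] at h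
      exact h
    · exfalso
      rw [hval, mul_inv_eq_iff_eq_mul] at h
      have h1 := congrArg (fun t => t ^ o) h
      rw [conj_pow, heo', mul_one, mul_inv_cancel, (hzc _).mul_pow, heo', mul_one, hzo] at h1
      exact hz1 h1.symm
  refine ⟨e, e.2, Odd.of_dvd_nat ⟨r, hr⟩ (orderOf_dvd_of_pow_eq_one heo'), hwe, ?_, ?_⟩
  · intro x hx hxx hex
    have h1 : pr (⟨x, hx⟩ * ⟨x, hx⟩) = 1 := (hpr _).2 (Or.inr hxx)
    rw [map_mul] at h1
    have h2 := congrArg pr (show e * ⟨x, hx⟩ = ⟨x, hx⟩ * e from Subtype.ext hex.eq)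
    rw [map_mul, map_mul, hpe] at h2
    rcases (hpr _).1 (hσx _ (hprsign _) h1 h2.symm) with h | h
    · rw [show x = 1 from h, mul_one] at hxx
      exact hz1 hxx.symm
    · rw [show x = z from h, hz] at hxx
      exact hz1 hxx.symm
  · obtain ⟨k, hk⟩ := hsurj ([(0 : Fin 7), 1, 2, 3].formPerm * swap 4 5) (by decide +kernel)
    have h4 : (k : H) ^ 4 = 1 ∨ (k : H) ^ 4 = z := by
      have := (hpr (k ^ 4)).1 (by rw [map_pow, hk]; decide +kernel)
      rwa [Subgroup.coe_pow] at this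
    refine ⟨k, k.2, ?_, fun hk4 => ?_⟩
    · rw [show (8 : ℕ) = 4 + 4 from rfl, pow_add]
      rcases h4 with h | h <;> rw [h]
      · exact one_mul 1
      · exact hz
    · have h1 : pr (k * k) = 1 := (hpr _).2 (hone _ (mul_mem k.2 k.2) (by
        rw [Subgroup.coe_mul, ← hk4]; simp [pow_succ, mul_assoc]))
      rw [map_mul, hk] at h1
      exact absurd h1 (by decide +kernel)

end Cfsg.Agent.H74.Quat
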