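import Cfsg.Agent.H74.Quat.SLCase
import Cfsg.Agent.H74.Quat.AltCase
import Cfsg.Agent.H80.GW.RankOne

/-!
# No outer involution with centralizer inside a Sylow normalizer

For a perfect `K` with one involution, an involution `w` outside `K` normalizing a Sylow 2-subgroup `P`
of `K` cannot have its centralizer in `K` inside the normalizer of `P`.
-/

set_option autoImplicit false
set_option linter.style.haveILetI false

namespace Cfsg.Agent.H74.Quat

open Subgroup

universe u

/-- No outer involution. -/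
theorem no_outer_involution (hGW : H80.GW.DihedralStatement.{u}) {H : Type u} [Group H] [Finite H]
    (K : Subgroup H) [K.Normal] [Group.IsPerfect ↥K] (hsimp : IsSimpleGroup (↥K ⧸ center ↥K)) {z : H}
    (hzK : z ∈ K) (hz : orderOf z = 2) (hcent : ∀ h : H, (∀ l ∈ K, Commute l h) → h = 1 ∨ h = z)
    (hone : ∀ x ∈ K, x * x = 1 → x = 1 ∨ x = z) (P : Sylow 2 ↥K) {w : H} (hw : w * w = 1)
    (hwK : w ∉ K) (hwP : w ∈ normalizer (((P : Subgroup ↥K).map K.subtype) : Set H))
    (hnorm : ∀ g ∈ K, Commute g w → g ∈ normalizer (((P : Subgroup ↥K).map K.subtype) : Set H)) :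
    False := by
  haveI : Fact (Nat.Prime 2) := ⟨Nat.prime_two⟩
  have hz2 : z * z = 1 := by rw [← pow_two, ← hz, pow_orderOf_eq_one]
  have hz1 : z ≠ 1 := fun h => by rw [h, orderOf_one] at hz; exact absurd hz (by norm_num)
  have hzc : ∀ h, Commute z h := fun h => by
    rcases hone (h * z * h⁻¹) (Subgroup.Normal.conj_mem inferInstance z hzK h) (by
      rw [show h * z * h⁻¹ * (h * z * h⁻¹) = h * (z * z) * h⁻¹ by group, hz2, mul_one, mul_inv_cancel])
      with h1 | h1
    · exact absurd (by rwa [mul_inv_eq_one, mul_eq_left] at h1) hz1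
    · exact (mul_inv_eq_iff_eq_mul.1 h1).symm
  -- `K` is core-free of rank one
  have hzo : orderOf (⟨z, hzK⟩ : ↥K) = 2 := by
    rw [← orderOf_injective K.subtype K.subtype_injective]; exact hz
  have heven : Even (Nat.card ↥K) := even_iff_two_dvd.2 (hzo ▸ orderOf_dvd_natCard _)
  have hrk : Cfsg.PRankLE 2 1 ↥K := by
    intro A _ hA
    have hsub : (A : Set ↥K) ⊆ {1, ⟨z, hzK⟩} := fun a ha => by
      rcases hone a a.2 (by rw [← Subgroup.coe_mul, ← pow_two, hA a ha, Subgroup.coe_one]) with h | h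
      · exact Or.inl (Subtype.ext h)
      · exact Or.inr (Subtype.ext h)
    rw [pow_one]
    calc Nat.card A = (A : Set ↥K).ncard := (Nat.card_coe_set_eq _)
      _ ≤ ({1, ⟨z, hzK⟩} : Set ↥K).ncard := Set.ncard_le_ncard hsub
      _ ≤ 2 := (Set.ncard_insert_le _ _).trans (by simp)
  have hO : Cfsg.oddCore ↥K = ⊥ := by
    have hodd : Odd (Nat.card (Cfsg.oddCore ↥K)) := Cores.odd_card_oddCore
    set L := Cfsg.oddCore ↥K with hL
    haveI := hsimp
    rcases Subgroup.Normal.eq_bot_or_eq_top (H := L.map (QuotientGroup.mk' (center ↥K)))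
        (Subgroup.Normal.map inferInstance _ (QuotientGroup.mk'_surjective _)) with h | h
    · rw [eq_bot_iff]
      intro x hx
      have hxc : x ∈ center ↥K := by
        rw [← QuotientGroup.ker_mk' (center ↥K)]
        exact (Subgroup.map_eq_bot_iff _).1 h hx
      rcases hcent (x : H) (fun l hl => congrArg Subtype.val (mem_center_iff.1 hxc ⟨l, hl⟩)) with h1 | h1
      · exact Subtype.ext h1
      · exfalso
        rw [show x = ⟨z, hzK⟩ from Subtype.ext h1] at hx
        have h2 := Subgroup.orderOf_dvd_natCard L hx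
        rw [hzo] at h2
        exact Nat.not_even_iff_odd.2 hodd (even_iff_two_dvd.2 h2)
    · exfalso
      have htop : L = ⊤ := by
        refine eq_top_iff.2 ?_
        rw [← Group.IsPerfect.commutator_eq_top (G := ↥K)]
        refine Subgroup.commutator_le.2 fun a _ b _ => ?_
        obtain ⟨a', ha', ea⟩ : QuotientGroup.mk' (center ↥K) a ∈ L.map (QuotientGroup.mk' (center ↥K)) :=
          h ▸ mem_top _
        obtain ⟨b', hb', eb⟩ : QuotientGroup.mk' (center ↥K) b ∈ L.map (QuotientGroup.mk' (center ↥K)) :=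
          h ▸ mem_top _
        rw [← mul_inv_cancel_left a' a, ← mul_inv_cancel_left b' b, commutatorElement_def,
          H74.Schur.commutatorElement_mul_central (QuotientGroup.eq.1 ea) (QuotientGroup.eq.1 eb)]
        exact mul_mem (mul_mem (mul_mem ha' hb') (inv_mem ha')) (inv_mem hb')
      rw [htop, Subgroup.card_top] at hodd
      exact Nat.not_even_iff_odd.2 hodd heven
  -- the element
  obtain ⟨e, heK, heo, hwe, hne, hmodel⟩ : ∃ e ∈ K, Odd (orderOf e) ∧ Commute w e ∧
      (∀ x ∈ K, x * x = z → ¬ Commute e x) ∧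
      ((∃ x ∈ K, x ^ 8 = 1 ∧ x ^ 4 ≠ 1) ∨
        ((∀ x ∈ K, x * x = z → ¬ Commute w x) ∧ ∃ x ∈ K, x * x = z)) := by
    rcases H80.GW.rank_one_core_free hGW hO heven hrk with ⟨F, iF, iT, hodd, h3, ⟨ψ⟩⟩ | ⟨-, ⟨f⟩, -⟩
    · exact exists_element_SL ψ hodd h3 hzK hz2 hz1 hzc hcent hone hw hwK
    · obtain ⟨e, h1, h2, h3, h4, h5⟩ := exists_element_alt f hzK hz2 hz1 hzc hcent hone hw hwK
      exact ⟨e, h1, h2, h3, h4, Or.inl h5⟩
  set Q := (P : Subgroup ↥K).map K.subtype with hQ
  have hQK : Q ≤ K := Subgroup.map_subtype_le _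
  have hQp : IsPGroup 2 ↥Q := P.isPGroup'.map K.subtype
  refine false_of_centralizing hQp (fun x hx => hone x (hQK hx)) hz2 hz1 hzc hw hwP heo
    (hnorm e heK hwe.symm) hwe (fun x hx => hne x (hQK hx)) ?_
  rcases hmodel with ⟨x, hx, hx8, hx4⟩ | ⟨hnw, x, hx, hxx⟩
  · obtain ⟨k, hk⟩ := exists_conj_mem P hx (n := 3) hx8
    refine Or.inl ⟨_, hk, fun h => hx4 ?_⟩
    rwa [conj_pow, mul_inv_eq_one, mul_eq_left] at h
  · obtain ⟨k, hk⟩ := exists_conj_mem P hx (n := 2) (by
      rw [show (2 : ℕ) ^ 2 = 2 + 2 from rfl, pow_add, pow_two, hxx, hz2])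
    refine Or.inr ⟨fun y hy => hnw y (hQK hy), _, hk, ?_⟩
    rw [show k * x * k⁻¹ * (k * x * k⁻¹) = k * (x * x) * k⁻¹ by group, hxx, ← (hzc k).eq,
      mul_inv_cancel_right]

end Cfsg.Agent.H74.Quat
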