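import Mathlib
import Cfsg.Agent.S0016
import Cfsg.Agent.H74.SchurPerfect

/-!
# An odd order element normalizing a 2-group with one involution

`false_of_centralizing`: if `e` of odd order normalizes such a group `Q` and centralizes no element of
order four of `Q`, then `Q` has exponent four and no involutory automorphism without fixed elements of
order four commutes with `e`.
-/

set_option autoImplicit false
set_option linter.style.haveILetI false

namespace Cfsg.Agent.H74.Quat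

open Subgroup

variable {H : Type*} [Group H]

/-- An element of odd order is a power of its square. -/
theorem commute_of_sq {e y : H} (he : Odd (orderOf e)) (h : Commute (e * e) y) : Commute e y := by
  obtain ⟨k, hk⟩ := he
  have h1 : e = (e * e) ^ (k + 1) := by
    rw [← pow_two, ← pow_mul, show 2 * (k + 1) = orderOf e + 1 by omega, pow_succ, pow_orderOf_eq_one, one_mul]
  rw [h1]
  exact h.pow_left _

/-- A 2-power root of the identity with non-trivial square has a power of order four. -/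
theorem exists_pow_sq_eq {Q : Subgroup H} {z y : H} (hone : ∀ x ∈ Q, x * x = 1 → x = 1 ∨ x = z)
    (hy : y ∈ Q) (hy2 : y * y ≠ 1) {N : ℕ} (hN : y ^ 2 ^ N = 1) :
    ∃ n : ℕ, (y ^ 2 ^ n) * (y ^ 2 ^ n) = z := by
  induction N generalizing y with
  | zero =>
    rw [pow_zero, pow_one] at hN
    exact absurd (by rw [hN, mul_one]) hy2
  | succ N ih =>
    by_cases h4 : (y * y) * (y * y) = 1
    · exact ⟨0, by simpa using (hone _ (mul_mem hy hy) h4).resolve_left hy2⟩
    · obtain ⟨n, hn⟩ := ih (mul_mem hy hy) h4 (by rw [← pow_two, ← pow_mul, ← pow_succ']; exact hN)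
      refine ⟨n + 1, ?_⟩
      rwa [← pow_two y, ← pow_mul, ← pow_succ'] at hn

variable [Finite H]

/-- The elements of order at least eight of a 2-group with one involution commute. -/
theorem big_commute {Q : Subgroup H} {z : H} (hQ : IsPGroup 2 ↥Q)
    (hone : ∀ x ∈ Q, x * x = 1 → x = 1 ∨ x = z) {x y : H} (hx : x ∈ Q) (hy : y ∈ Q)
    (hx4 : x ^ 4 ≠ 1) (hy4 : y ^ 4 ≠ 1) : Commute x y := by
  haveI : Fact (Nat.Prime 2) := ⟨Nat.prime_two⟩
  have huniq : ∀ A B : Subgroup ↥Q, Nat.card A = 2 → Nat.card B = 2 → A = B := by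
    have key : ∀ A B : Subgroup ↥Q, Nat.card A = 2 → Nat.card B = 2 → A ≤ B := by
      intro A B hA hB a ha
      by_cases ha1 : a = 1
      · exact ha1 ▸ one_mem B
      have ha2 : a * a = 1 := by
        have := congrArg Subtype.val (pow_card_eq_one' (x := (⟨a, ha⟩ : ↥A)))
        rw [hA, pow_two] at this
        exact this
      obtain ⟨b, hb⟩ := exists_prime_orderOf_dvd_card' (G := ↥B) 2 (by rw [hB])
      have hb2 : (b : ↥Q) * (b : ↥Q) = 1 := by
        have := congrArg Subtype.val (pow_orderOf_eq_one b)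
        rw [hb, pow_two] at this
        exact this
      have hb1 : (b : ↥Q) ≠ 1 := fun h => by
        rw [show b = 1 from Subtype.ext h, orderOf_one] at hb
        exact absurd hb (by norm_num)
      have hne : ∀ c : ↥Q, c * c = 1 → c ≠ 1 → (c : H) = z := fun c hc hc1 =>
        (hone c c.2 (congrArg Subtype.val hc)).resolve_left fun h => hc1 (Subtype.ext h)
      have : a = (b : ↥Q) := Subtype.ext ((hne a ha2 ha1).trans (hne _ hb2 hb1).symm)
      exact this ▸ b.2
    exact fun A B hA hB => le_antisymm (key A B hA hB) (key B A hB hA)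
  rcases S0016.result 2 hQ huniq with hc | ⟨-, n, ⟨φ⟩⟩
  · exact congrArg Subtype.val ((IsCyclic.isMulCommutative (α := ↥Q)).is_comm.comm ⟨x, hx⟩ ⟨y, hy⟩)
  · haveI : NeZero (2 ^ n) := ⟨by positivity⟩
    have hrot : ∀ u : ↥Q, (u : H) ^ 4 ≠ 1 → ∃ i, φ u = QuaternionGroup.a i := by
      intro u hu
      rcases h : φ u with i | i
      · exact ⟨i, rfl⟩
      · refine absurd ?_ hu
        have h1 : u ^ 4 = 1 := φ.injective (by rw [map_pow, h, QuaternionGroup.xa_pow_four, map_one])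
        exact congrArg Subtype.val h1
    obtain ⟨i, hi⟩ := hrot ⟨x, hx⟩ hx4
    obtain ⟨j, hj⟩ := hrot ⟨y, hy⟩ hy4
    have h1 : (⟨x, hx⟩ : ↥Q) * ⟨y, hy⟩ = ⟨y, hy⟩ * ⟨x, hx⟩ := φ.injective (by
      rw [map_mul, map_mul, hi, hj, QuaternionGroup.a_mul_a, QuaternionGroup.a_mul_a, add_comm])
    exact congrArg Subtype.val h1

/-- An element of odd order centralizes the elements of order at least eight it normalizes. -/
theorem commute_big {Q : Subgroup H} {z : H} (hQ : IsPGroup 2 ↥Q)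
    (hone : ∀ x ∈ Q, x * x = 1 → x = 1 ∨ x = z) (hz : z * z = 1) (hzc : ∀ h, Commute z h)
    {e : H} (he : Odd (orderOf e)) (heQ : e ∈ normalizer (Q : Set H)) {y : H} (hy : y ∈ Q)
    (hy4 : y ^ 4 ≠ 1) : Commute e y := by
  obtain ⟨N, hN⟩ := hQ ⟨y, hy⟩
  have hN' : y ^ 2 ^ N = 1 := congrArg Subtype.val hN
  suffices key : ∀ m j, j + m = N → Commute e (y ^ 2 ^ j) by simpa using key N 0 (by omega)
  intro m
  induction m with
  | zero =>
    intro j hj
    rw [show j = N by omega, hN']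
    exact Commute.one_right e
  | succ m ih =>
    intro j hj
    have hnext := ih (j + 1) (by omega)
    rw [pow_succ, pow_mul, pow_two] at hnext
    set u := y ^ 2 ^ j with hu
    let f : H := e * y * e⁻¹
    have hfQ : f ∈ Q := (mem_normalizer_iff.1 heQ y).1 hy
    have hf4 : f ^ 4 ≠ 1 := fun h => hy4 (by
      rwa [conj_pow, mul_inv_eq_one, mul_eq_left] at h)
    set v := e * u * e⁻¹ with hv
    have hvf : v = f ^ 2 ^ j := (conj_pow).symm
    have huv : Commute u v := hvf ▸ (big_commute hQ hone hy hfQ hy4 hf4).pow_pow _ _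
    have hvv : v * v = u * u := by
      rw [hv, show e * u * e⁻¹ * (e * u * e⁻¹) = e * (u * u) * e⁻¹ by group, hnext.eq]
      group
    have hd : (u⁻¹ * v) * (u⁻¹ * v) = 1 := by
      rw [show (u⁻¹ * v) * (u⁻¹ * v) = u⁻¹ * (v * u⁻¹) * v by group, ← huv.inv_left.eq,
        show u⁻¹ * (u⁻¹ * v) * v = u⁻¹ * u⁻¹ * (v * v) by group, hvv]
      group
    rcases hone _ (mul_mem (inv_mem (pow_mem hy _)) (hvf ▸ pow_mem hfQ _)) hd with h | h
    · have h' : v = u := by rwa [inv_mul_eq_one, eq_comm] at h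
      exact mul_inv_eq_iff_eq_mul.1 h'
    · have h' : v = u * z := eq_mul_of_inv_mul_eq h
      refine commute_of_sq he (mul_inv_eq_iff_eq_mul.1 ?_)
      rw [show e * e * u * (e * e)⁻¹ = e * v * e⁻¹ by rw [hv]; group, h',
        show e * (u * z) * e⁻¹ = e * u * (z * e⁻¹) by group, (hzc e⁻¹).eq, ← mul_assoc, ← hv, h',
        mul_assoc, hz, mul_one]

/-- The final contradiction. -/
theorem false_of_centralizing {Q : Subgroup H} {z : H} (hQ : IsPGroup 2 ↥Q)
    (hone : ∀ x ∈ Q, x * x = 1 → x = 1 ∨ x = z) (hz : z * z = 1) (hz1 : z ≠ 1)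
    (hzc : ∀ h, Commute z h) {w e : H} (hw : w * w = 1) (hwQ : w ∈ normalizer (Q : Set H))
    (he : Odd (orderOf e)) (heQ : e ∈ normalizer (Q : Set H)) (hwe : Commute w e)
    (hne : ∀ x ∈ Q, x * x = z → ¬ Commute e x)
    (h4 : (∃ y ∈ Q, y ^ 4 ≠ 1) ∨
      ((∀ x ∈ Q, x * x = z → ¬ Commute w x) ∧ ∃ y ∈ Q, y * y = z)) : False := by
  by_cases hbig : ∃ y ∈ Q, y ^ 4 ≠ 1
  · obtain ⟨y, hy, hy4⟩ := hbig
    obtain ⟨N, hN⟩ := hQ ⟨y, hy⟩
    obtain ⟨n, hn⟩ := exists_pow_sq_eq hone hy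
      (fun h => hy4 (by rw [show y ^ 4 = y * y * (y * y) by simp [pow_succ, mul_assoc], h, mul_one]))
      (congrArg Subtype.val hN)
    exact hne _ (pow_mem hy _) hn ((commute_big hQ hone hz hzc he heQ hy hy4).pow_right _)
  obtain ⟨hnw, y₀, hy₀, hy₀z⟩ := h4.resolve_left hbig
  push Not at hbig
  have hsq : ∀ x ∈ Q, x * x = 1 ∨ x * x = z := fun x hx =>
    hone _ (mul_mem hx hx) (by simpa [pow_succ, mul_assoc] using hbig x hx)
  have hmid : ∀ x ∈ Q, x ≠ 1 → x ≠ z → x * x = z := fun x hx h1 h2 =>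
    (hsq x hx).resolve_left fun h => (hone x hx h).elim h1 h2
  have hinv : ∀ x : H, x * x = z → x⁻¹ = x * z := fun x hx =>
    inv_eq_of_mul_eq_one_right (by rw [← mul_assoc, hx, hz])
  have hzsq : ∀ {a : H}, a * a = z → a ≠ 1 ∧ a ≠ z := fun {a} ha =>
    ⟨fun h => hz1 (by rw [← ha, h, mul_one]), fun h => hz1 (by rw [← ha, h, hz])⟩
  have hmulne : ∀ {a b : H}, a * a = z → b ≠ a → b ≠ a * z → a * b ≠ 1 ∧ a * b ≠ z := by
    intro a b ha h1 h2
    exact ⟨fun h => h2 ((inv_eq_of_mul_eq_one_right h).symm.trans (hinv a ha)),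
      fun h => h1 (mul_left_cancel (h.trans ha.symm))⟩
  have hwi : w⁻¹ = w := inv_eq_of_mul_eq_one_right hw
  let c : H →* H := (MulAut.conj w).toMonoidHom
  have hc : ∀ x, c x = w * x * w⁻¹ := fun x => rfl
  have hcQ : ∀ x ∈ Q, c x ∈ Q := fun x hx => (mem_normalizer_iff.1 hwQ x).1 hx
  have hcc : ∀ x, c (c x) = x := fun x => by
    rw [hc, hc, hwi, show w * (w * x * w) * w = (w * w) * x * (w * w) by group, hw, one_mul, mul_one]
  have hcz : c z = z := by rw [hc, ← (hzc w).eq, mul_inv_cancel_right]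
  have hcfix : ∀ x, c x = x → Commute w x := fun x hx => mul_inv_eq_iff_eq_mul.1 hx
  -- some element of order four is inverted by `w`
  obtain ⟨t, ht, htz, hwt⟩ : ∃ t ∈ Q, t * t = z ∧ c t = t * z := by
    have hy1 : c y₀ ≠ y₀ := fun h => hnw y₀ hy₀ hy₀z (hcfix _ h)
    by_cases hy2 : c y₀ = y₀ * z
    · exact ⟨y₀, hy₀, hy₀z, hy2⟩
    set y₁ := c y₀ with hy₁
    have hQ1 : y₁ ∈ Q := hcQ _ hy₀
    obtain ⟨h1, h2⟩ := hmulne hy₀z hy1 hy2
    have htz : (y₀ * y₁) * (y₀ * y₁) = z := hmid _ (mul_mem hy₀ hQ1) h1 h2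
    refine ⟨y₀ * y₁, mul_mem hy₀ hQ1, htz, ?_⟩
    have hy1z : y₁ * y₁ = z := by rw [hy₁, ← map_mul, hy₀z, hcz]
    rw [map_mul, ← hy₁, show c y₁ = y₀ from hcc y₀, ← hinv _ htz, _root_.mul_inv_rev, hinv _ hy₀z, hinv _ hy1z,
      show y₁ * z * (y₀ * z) = y₁ * (z * y₀) * z by group, (hzc y₀).eq,
      show y₁ * (y₀ * z) * z = y₁ * y₀ * (z * z) by group, hz, mul_one]
  have ht1Q : e * t * e⁻¹ ∈ Q := (mem_normalizer_iff.1 heQ t).1 ht
  set t₁ := e * t * e⁻¹ with ht₁
  have ht1z : t₁ * t₁ = z := by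
    rw [ht₁, show e * t * e⁻¹ * (e * t * e⁻¹) = e * (t * t) * e⁻¹ by group, htz, ← (hzc e).eq,
      mul_inv_cancel_right]
  have hwe' : c e = e := by rw [hc, hwe.eq, mul_inv_cancel_right]
  have hwt1 : c t₁ = t₁ * z := by
    rw [ht₁, map_mul, map_mul, map_inv, hwe', hwt,
      show e * (t * z) * e⁻¹ = e * t * (z * e⁻¹) by group, (hzc e⁻¹).eq, ← mul_assoc]
  have hne1 : t₁ ≠ t := fun h => hne t ht htz (mul_inv_eq_iff_eq_mul.1 h)
  have hne2 : t₁ ≠ t * z := fun h => by
    refine hne t ht htz (commute_of_sq he (mul_inv_eq_iff_eq_mul.1 ?_))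
    rw [show e * e * t * (e * e)⁻¹ = e * t₁ * e⁻¹ by rw [ht₁]; group, h,
      show e * (t * z) * e⁻¹ = e * t * (z * e⁻¹) by group, (hzc e⁻¹).eq, ← mul_assoc, ← ht₁, h,
      mul_assoc, hz, mul_one]
  obtain ⟨h1, h2⟩ := hmulne htz hne1 hne2
  have hu : (t * t₁) * (t * t₁) = z := hmid _ (mul_mem ht ht1Q) h1 h2
  refine hnw _ (mul_mem ht ht1Q) hu (hcfix _ ?_)
  rw [map_mul, hwt, hwt1, show t * z * (t₁ * z) = t * (z * t₁) * z by group, (hzc t₁).eq,
    show t * (t₁ * z) * z = t * t₁ * (z * z) by group, hz, mul_one]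

/-- Any 2-element of a normal subgroup has a conjugate in the image of a given Sylow 2-subgroup. -/
theorem exists_conj_mem {K : Subgroup H} (P : Sylow 2 ↥K) {x : H} (hx : x ∈ K) {n : ℕ}
    (h : x ^ 2 ^ n = 1) : ∃ k : H, k * x * k⁻¹ ∈ (P : Subgroup ↥K).map K.subtype := by
  haveI : Fact (Nat.Prime 2) := ⟨Nat.prime_two⟩
  have hp : IsPGroup 2 ↥(zpowers (⟨x, hx⟩ : ↥K)) := by
    refine IsPGroup.iff_card.2 ?_
    rw [Nat.card_zpowers]
    obtain ⟨i, -, hi⟩ := (Nat.dvd_prime_pow Nat.prime_two).1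
      (orderOf_dvd_of_pow_eq_one (x := (⟨x, hx⟩ : ↥K)) (Subtype.ext h))
    exact ⟨i, hi⟩
  obtain ⟨S, hS⟩ := hp.exists_le_sylow
  obtain ⟨k, hk⟩ := MulAction.exists_smul_eq ↥K S P
  refine ⟨(k : H), k * ⟨x, hx⟩ * k⁻¹, ?_, rfl⟩
  show _ ∈ (P : Subgroup ↥K)
  rw [← hk, Sylow.coe_subgroup_smul, Subgroup.mem_pointwise_smul_iff_inv_smul_mem]
  simp only [MulAut.smul_def, MulAut.inv_apply, MulAut.conj_symm_apply]
  simpa [mul_assoc] using hS (mem_zpowers _)

/-- Endomorphisms of a perfect group agreeing modulo the centre are equal. -/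
theorem eq_of_agree_mod_center {X : Type*} [Group X] [Group.IsPerfect X] {a b : X →* X}
    (h : ∀ x, (b x)⁻¹ * a x ∈ center X) : a = b := by
  refine MonoidHom.eq_of_eqOn_dense (s := commutatorSet X) ?_ ?_
  · rw [← commutator_eq_closure]
    exact Group.IsPerfect.commutator_eq_top
  · rintro _ ⟨s, t, rfl⟩
    rw [map_commutatorElement, map_commutatorElement, ← mul_inv_cancel_left (b s) (a s),
      ← mul_inv_cancel_left (b t) (a t), commutatorElement_def, commutatorElement_def]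
    exact H74.Schur.commutatorElement_mul_central (h s) (h t)

end Cfsg.Agent.H74.Quat
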