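import Cfsg.Agent.H74.Quat.Core
import Cfsg.Agent.H4.GW.AutShape
import Cfsg.Agent.Linear.Mult.SLCommute

/-!
# An involution inducing an outer automorphism on `SL(2,q)`

It commutes with an element of odd order which commutes with no element of order four: a torus element
for diagonal automorphisms, a root element for field automorphisms.
-/

set_option autoImplicit false
set_option linter.style.haveILetI false
set_option linter.unusedSectionVars false

namespace Cfsg.Agent.H74.Quat

open Subgroup Matrix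
open Cfsg.Agent.H56 (SLn PSLn smat semiSL semiAut glMap toP)

variable {F : Type} [Field F] [Fintype F]

/-! ### Two by two matrices -/

theorem trace_zero {y : SLn 2 F} (h : smat y * smat y = -1) : smat y 1 1 = -smat y 0 0 := by
  have h1 : smat y 0 0 * smat y 0 0 + smat y 0 1 * smat y 1 0 = -1 := by
    simpa [Matrix.mul_apply, Fin.sum_univ_two] using congrFun (congrFun h 0) 0
  have h2 : smat y 1 0 * smat y 0 1 + smat y 1 1 * smat y 1 1 = -1 := by
    simpa [Matrix.mul_apply, Fin.sum_univ_two] using congrFun (congrFun h 1) 1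
  have h3 : smat y 0 0 * smat y 1 1 - smat y 0 1 * smat y 1 0 = 1 := by
    rw [← Matrix.det_fin_two]; exact y.det_coe
  have h4 : (smat y 0 0 + smat y 1 1) ^ 2 = 0 := by linear_combination h1 + h2 + 2 * h3
  linear_combination pow_eq_zero_iff (two_ne_zero) |>.1 h4

theorem det_eq_sq (h2 : (2 : F) ≠ 0) {A y : Matrix (Fin 2) (Fin 2) F} (hA : A 1 1 = -A 0 0)
    (hy : y 1 1 = -y 0 0) (hc : y * A = A * y) :
    ∃ t : F, y.det * A.det = t * t ∧ y * A = t • 1 := by
  have c00 : y 0 1 * A 1 0 = A 0 1 * y 1 0 := by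
    have := congrFun (congrFun hc 0) 0
    simp [Matrix.mul_apply, Fin.sum_univ_two] at this
    linear_combination this
  have c01 : y 0 0 * A 0 1 + y 0 1 * A 1 1 = A 0 0 * y 0 1 + A 0 1 * y 1 1 := by
    simpa [Matrix.mul_apply, Fin.sum_univ_two] using congrFun (congrFun hc 0) 1
  have c10 : y 1 0 * A 0 0 + y 1 1 * A 1 0 = A 1 0 * y 0 0 + A 1 1 * y 1 0 := by
    simpa [Matrix.mul_apply, Fin.sum_univ_two] using congrFun (congrFun hc 1) 0
  rw [hA, hy] at c01 c10
  have z01 : y 0 0 * A 0 1 - y 0 1 * A 0 0 = 0 := by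
    apply mul_left_cancel₀ h2
    linear_combination c01
  have z10 : y 1 0 * A 0 0 - y 0 0 * A 1 0 = 0 := by
    apply mul_left_cancel₀ h2
    linear_combination c10
  have heq : y * A = (y 0 0 * A 0 0 + y 0 1 * A 1 0) • 1 := by
    ext i j
    fin_cases i <;> fin_cases j <;> simp [Matrix.mul_apply, Fin.sum_univ_two, hA, hy]
    · linear_combination z01
    · linear_combination z10
    · linear_combination -c00
  refine ⟨_, ?_, heq⟩
  rw [← Matrix.det_mul, heq, Matrix.det_smul, Matrix.det_one]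
  simp [pow_two]

theorem semiSL_eq_iff {g : GL (Fin 2) F} {σ : F ≃+* F} {u v : SLn 2 F} :
    semiSL g σ u = v ↔ (g : Matrix (Fin 2) (Fin 2) F) * (smat u).map σ = smat v * g := by
  constructor
  · rintro rfl
    rw [H56.smat_semiSL, mul_assoc, ← Units.val_mul, inv_mul_cancel, Units.val_one, mul_one]
  · intro h
    refine Subtype.ext ?_
    show smat (semiSL g σ u) = smat v
    rw [H56.smat_semiSL, h, mul_assoc, ← Units.val_mul, mul_inv_cancel, Units.val_one, mul_one]

/-- `SL₂` element `-1`. -/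
def negOne : SLn 2 F := ⟨-1, by rw [Matrix.det_fin_two]; simp⟩

theorem exists_avoid (h3 : 3 < Fintype.card F) (d : F) : ∃ t : F, t ≠ 0 ∧ d * t ^ 2 ≠ 1 := by
  classical
  by_contra! h
  have h1 := h 1 one_ne_zero
  rw [one_pow, mul_one] at h1
  subst h1
  have hsub : (Finset.univ : Finset F) ⊆ {0, 1, -1} := fun t _ => by
    by_cases h0 : t = 0
    · simp [h0]
    · have h2 : t ^ 2 = 1 := by simpa using h t h0
      rcases sq_eq_one_iff.1 h2 with rfl | rfl <;> simp
  have := Finset.card_le_card hsub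
  rw [Finset.card_univ] at this
  have h5 : Finset.card ({0, 1, -1} : Finset F) ≤ 3 := Finset.card_le_three
  omega

/-! ### Field automorphisms of order two -/

variable (σ : F ≃+* F)

theorem isSquare_of_norm_one (hodd : Odd (Fintype.card F)) (hσσ : ∀ x, σ (σ x) = x)
    (hσ : σ ≠ RingEquiv.refl F) {i : F} (hi : i * σ i = 1) (hi1 : i ≠ -1) : IsSquare i := by
  have hw : (1 + i) * σ (1 + i) ≠ 0 := by
    have : 1 + i ≠ 0 := fun h => hi1 (eq_neg_of_add_eq_zero_right h)
    exact mul_ne_zero this fun h => this (σ.injective (h.trans (map_zero σ).symm))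
  obtain ⟨s, hs⟩ := H4.GW.isSquare_of_fixed hodd hσσ hσ (c := (1 + i) * σ (1 + i))
    (by rw [map_mul, hσσ, mul_comm])
  have hs0 : s ≠ 0 := fun h => hw (by rw [hs, h, zero_mul])
  have hst : s * s = (1 + i) * (1 + σ i) := by rw [← hs, map_add, map_one]
  refine ⟨(1 + i) / s, ?_⟩
  field_simp
  linear_combination i * hst + (1 + i) * hi

theorem exists_fourth_root (hodd : Odd (Fintype.card F)) (hσσ : ∀ x, σ (σ x) = x)
    (hσ : σ ≠ RingEquiv.refl F) : ∃ j : F, j ^ 4 = -1 := by
  have h2 := H4.GW.two_ne hodd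
  obtain ⟨i, hi⟩ := H4.GW.isSquare_of_fixed hodd hσσ hσ (c := (-1 : F)) (by rw [map_neg, map_one])
  have hi' : σ i * σ i = i * i := by rw [← map_mul, ← hi, map_neg, map_one]
  obtain ⟨j, hj⟩ : IsSquare i := by
    rcases mul_self_eq_mul_self_iff.1 hi' with h | h
    · exact H4.GW.isSquare_of_fixed hodd hσσ hσ h
    · refine isSquare_of_norm_one σ hodd hσσ hσ (by rw [h, mul_neg, ← hi, neg_neg]) fun h1 => h2 ?_
      rw [h1] at hi
      linear_combination -hi
  exact ⟨j, by rw [show j ^ 4 = j * j * (j * j) by ring, ← hj, ← hi]⟩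

theorem exists_norm_eq (hodd : Odd (Fintype.card F)) (hσσ : ∀ x, σ (σ x) = x)
    (hσ : σ ≠ RingEquiv.refl F) {c : F} (hc : σ c = c) : ∃ μ : F, μ * σ μ = c := by
  obtain ⟨s, hs⟩ := H4.GW.isSquare_of_fixed hodd hσσ hσ hc
  have hs' : σ s * σ s = s * s := by rw [← map_mul, ← hs, hc]
  rcases mul_self_eq_mul_self_iff.1 hs' with h | h
  · exact ⟨s, by rw [h, hs]⟩
  obtain ⟨ν, hν⟩ : ∃ ν : F, ν * σ ν = -1 := by
    obtain ⟨i, hi⟩ := H4.GW.isSquare_of_fixed hodd hσσ hσ (c := (-1 : F)) (by rw [map_neg, map_one])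
    have hi' : σ i * σ i = i * i := by rw [← map_mul, ← hi, map_neg, map_one]
    rcases mul_self_eq_mul_self_iff.1 hi' with h1 | h1
    · exact ⟨i, by rw [h1, hi]⟩
    let F₀ : Subfield F := RingHom.eqLocusField (σ : F →+* F) (RingHom.id F)
    haveI := Fintype.ofFinite F₀
    obtain ⟨a, b, hab⟩ := H27.QuaternionSylow.exists_sq_add_sq (F := F₀)
      (Nat.card_eq_fintype_card (α := F₀) ▸ H4.GW.odd_card_subfield hodd F₀)
    have ha : σ (a : F) = a := a.2
    have hb : σ (b : F) = b := b.2
    have hab' : (a : F) ^ 2 + (b : F) ^ 2 = -1 := by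
      simpa using congrArg (Subtype.val : F₀ → F) hab
    exact ⟨(a : F) + (b : F) * i, by rw [map_add, map_mul, ha, hb, h1]; linear_combination hab' + (b : F) ^ 2 * hi⟩
  exact ⟨ν * s, by rw [map_mul, h, hs]; linear_combination (-(s * s)) * hν⟩

theorem exists_nilpotent (hodd : Odd (Fintype.card F)) (hσσ : ∀ x, σ (σ x) = x)
    (hσ : σ ≠ RingEquiv.refl F) (g : GL (Fin 2) F) {c : F} (hc0 : c ≠ 0) (hc : σ c = c)
    (hg : (g : Matrix (Fin 2) (Fin 2) F) * (g : Matrix (Fin 2) (Fin 2) F).map σ = c • 1) :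
    ∃ N : Matrix (Fin 2) (Fin 2) F, N ≠ 0 ∧ N * N = 0 ∧ N 1 1 = -N 0 0 ∧ N.det = 0 ∧
      (g : Matrix (Fin 2) (Fin 2) F) * N.map σ = N * g := by
  obtain ⟨l, hl⟩ : ∃ l, σ l ≠ l := by
    by_contra! h
    exact hσ (RingEquiv.ext h)
  set p := (g : Matrix (Fin 2) (Fin 2) F) with hp
  obtain ⟨μ, hμ⟩ := exists_norm_eq σ hodd hσσ hσ hc
  have hμ0 : μ ≠ 0 := fun h => hc0 (by rw [← hμ, h, zero_mul])
  have hσμ0 : σ μ ≠ 0 := fun h => hc0 (by rw [← hμ, h, mul_zero])
  have e00 : p 0 0 * σ (p 0 0) + p 0 1 * σ (p 1 0) = c := by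
    simpa [Matrix.mul_apply, Fin.sum_univ_two] using congrFun (congrFun hg 0) 0
  have e10 : p 1 0 * σ (p 0 0) + p 1 1 * σ (p 1 0) = 0 := by
    simpa [Matrix.mul_apply, Fin.sum_univ_two] using congrFun (congrFun hg 1) 0
  have hdet0 : p.det ≠ 0 := (Matrix.GeneralLinearGroup.det g).ne_zero
  have hdetn : p.det * σ p.det = c * c := by
    have := congrArg Matrix.det hg
    rw [Matrix.det_mul, Matrix.det_smul, Matrix.det_one, mul_one, ← RingEquiv.mapMatrix_apply,
      ← RingEquiv.map_det] at this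
    simpa [pow_two] using this
  -- an eigenvector of the semilinear map
  obtain ⟨v0, v1, hv, h0, h1⟩ : ∃ v0 v1 : F, (v0 ≠ 0 ∨ v1 ≠ 0) ∧
      p 0 0 * σ v0 + p 0 1 * σ v1 = σ μ * v0 ∧ p 1 0 * σ v0 + p 1 1 * σ v1 = σ μ * v1 := by
    have key : ∀ b : F, p 0 0 * σ (p 0 0 * σ b + μ * b) + p 0 1 * σ (p 1 0 * σ b) =
        σ μ * (p 0 0 * σ b + μ * b) ∧
      p 1 0 * σ (p 0 0 * σ b + μ * b) + p 1 1 * σ (p 1 0 * σ b) = σ μ * (p 1 0 * σ b) := by
      intro b
      constructor
      · rw [map_add, map_mul, map_mul, map_mul, hσσ]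
        linear_combination b * e00 - b * hμ
      · rw [map_add, map_mul, map_mul, map_mul, hσσ]
        linear_combination b * e10
    by_cases h1 : p 0 0 * σ 1 + μ * 1 = 0 ∧ p 1 0 * σ 1 = 0
    · refine ⟨_, _, Or.inl fun h => hl ?_, key l⟩
      rw [map_one, mul_one, mul_one] at h1
      have hh : p 0 0 = -μ := eq_neg_of_add_eq_zero_left h1.1
      rw [hh] at h
      exact mul_left_cancel₀ hμ0 (by linear_combination -h)
    · exact ⟨_, _, not_and_or.1 h1, key 1⟩
  let M : Matrix (Fin 2) (Fin 2) F := !![-(v0 * v1), v0 * v0; -(v1 * v1), v0 * v1]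
  set ν := σ μ * σ μ / p.det with hν
  have hνn : ν * σ ν = 1 := by
    rw [hν, map_div₀, map_mul, hσσ, div_mul_div_comm, hdetn,
      show σ μ * σ μ * (μ * μ) = (μ * σ μ) * (μ * σ μ) by ring, hμ, div_self (mul_ne_zero hc0 hc0)]
  have hM : p * M.map σ = ν • (M * p) := by
    have hd : p.det = p 0 0 * p 1 1 - p 0 1 * p 1 0 := Matrix.det_fin_two p
    rw [hν, div_eq_inv_mul, mul_smul, eq_inv_smul_iff₀ hdet0, hd]
    ext i j
    fin_cases i <;> fin_cases j <;>
      simp [M, Matrix.mul_apply, Matrix.vecMul, dotProduct, Fin.sum_univ_two] <;> grobner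
  obtain ⟨a, ha0, ha⟩ : ∃ a : F, a ≠ 0 ∧ σ a * ν = a := by
    have hb : ∀ b : F, σ (b + ν * σ b) * ν = b + ν * σ b := fun b => by
      rw [map_add, map_mul, hσσ]
      linear_combination b * hνn
    by_cases h : (1 : F) + ν * σ 1 = 0
    · refine ⟨l + ν * σ l, fun h' => hl ?_, hb l⟩
      rw [map_one, mul_one] at h
      linear_combination σ l * h - h'
    · exact ⟨_, h, hb 1⟩
  refine ⟨a • M, ?_, ?_, ?_, ?_, ?_⟩
  · intro h
    rcases hv with hv | hv
    · have := congrFun (congrFun h 0) 1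
      simp [M, ha0, hv] at this
    · have := congrFun (congrFun h 1) 0
      simp [M, ha0, hv] at this
  · have hMM : M * M = 0 := by
      ext i j
      fin_cases i <;> fin_cases j <;> simp [M, Matrix.mul_apply, Fin.sum_univ_two] <;> ring
    rw [smul_mul_smul_comm, hMM, smul_zero]
  · simp [M]
  · rw [Matrix.det_fin_two]
    simp [M]
    ring
  · rw [show (a • M).map σ = σ a • M.map σ by ext i j; simp, Matrix.mul_smul, hM, smul_smul, ha,
      Matrix.smul_mul]

/-! ### The action -/

variable {σ}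
variable {H : Type*} [Group H] [Finite H] {K : Subgroup H} [K.Normal] (ψ : ↥K ≃* SLn 2 F)

/-- Conjugation transported to `SL`. -/
noncomputable def slAct (h : H) : MulAut (SLn 2 F) :=
  (ψ.symm.trans (MulAut.conjNormal h)).trans ψ

theorem slAct_fix {h : H} {k : ↥K} : slAct ψ h (ψ k) = ψ k ↔ Commute h (k : H) := by
  show ψ (MulAut.conjNormal h (ψ.symm (ψ k))) = ψ k ↔ _
  rw [ψ.symm_apply_apply, ψ.apply_eq_iff_eq]
  constructor
  · intro h1
    have := congrArg Subtype.val h1
    rw [MulAut.conjNormal_apply] at this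
    exact mul_inv_eq_iff_eq_mul.1 this
  · intro h1
    refine Subtype.ext ?_
    rw [MulAut.conjNormal_apply, h1.eq, mul_inv_cancel_right]

theorem slAct_mul (h h' : H) (u : SLn 2 F) : slAct ψ (h * h') u = slAct ψ h (slAct ψ h' u) := by
  show ψ _ = ψ (MulAut.conjNormal h (ψ.symm (ψ _)))
  rw [ψ.symm_apply_apply, map_mul]
  rfl

include ψ in
/-- What is needed from the model. -/
theorem exists_element_SL (hodd : Odd (Fintype.card F)) (h3 : 3 < Fintype.card F) {z w : H}
    (hzK : z ∈ K) (hz : z * z = 1) (hz1 : z ≠ 1) (hzc : ∀ h, Commute z h)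
    (hcent : ∀ h : H, (∀ l ∈ K, Commute l h) → h = 1 ∨ h = z)
    (hone : ∀ x ∈ K, x * x = 1 → x = 1 ∨ x = z) (hw : w * w = 1) (hwK : w ∉ K) :
    ∃ e ∈ K, Odd (orderOf e) ∧ Commute w e ∧ (∀ x ∈ K, x * x = z → ¬ Commute e x) ∧
      ((∃ x ∈ K, x ^ 8 = 1 ∧ x ^ 4 ≠ 1) ∨
        ((∀ x ∈ K, x * x = z → ¬ Commute w x) ∧ ∃ x ∈ K, x * x = z)) := by
  classical
  have h2 := H4.GW.two_ne hodd
  haveI : Group.IsPerfect (SLn 2 F) := by
    refine ⟨Linear.commutator_SL_eq_top (Or.inr ?_)⟩
    obtain ⟨s, hs0, hs⟩ := Linear.Mult.exists_sq_ne_one (F := F) (by omega) (by omega)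
    exact ⟨s, hs0, hs⟩
  -- the involution
  have hψz : smat (ψ ⟨z, hzK⟩) = -1 := by
    have hn : (negOne : SLn 2 F) * negOne = 1 :=
      Subtype.ext (show (-1 : Matrix (Fin 2) (Fin 2) F) * -1 = 1 by simp)
    have hk := congrArg Subtype.val (show ψ.symm negOne * ψ.symm negOne = 1 by rw [← map_mul, hn, map_one])
    rcases hone _ (ψ.symm negOne).2 hk with h | h
    · exfalso
      have h0 : ψ.symm (negOne : SLn 2 F) = 1 := Subtype.ext h
      have h1 : (negOne : SLn 2 F) = 1 := ψ.symm.injective (h0.trans (map_one ψ.symm).symm)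
      have h00 : (-1 : F) = 1 := by
        simpa [negOne] using congrFun (congrFun (congrArg Subtype.val h1) 0) 0
      exact h2 (by linear_combination -h00)
    · rw [show (⟨z, hzK⟩ : ↥K) = ψ.symm negOne from Subtype.ext h.symm, ψ.apply_symm_apply]
      rfl
  have hsqz : ∀ k : ↥K, (k : H) * k = z → smat (ψ k) * smat (ψ k) = -1 := fun k hk => by
    rw [← hψz, ← show k * k = ⟨z, hzK⟩ from Subtype.ext hk, map_mul]
    rfl
  have hofz : ∀ k : ↥K, smat (ψ k) * smat (ψ k) = -1 → (k : H) * k = z := fun k hk => by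
    have h1 : k * k = ⟨z, hzK⟩ := ψ.injective (Subtype.ext (by
      rw [map_mul]
      exact hk.trans hψz.symm))
    exact congrArg Subtype.val h1
  have hcomm : ∀ a b : ↥K, Commute (a : H) b ↔ smat (ψ a) * smat (ψ b) = smat (ψ b) * smat (ψ a) := by
    intro a b
    constructor
    · intro h
      have h' := congrArg (fun t => smat (ψ t)) (show a * b = b * a from Subtype.ext h.eq)
      simp only [map_mul] at h'
      exact h'
    · intro h
      exact congrArg Subtype.val (ψ.injective (show ψ (a * b) = ψ (b * a) by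
        rw [map_mul, map_mul]; exact Subtype.ext h))
  -- the automorphism
  obtain ⟨g, σ, hφ⟩ := H56.exists_decomp le_rfl (H56.autOf (slAct ψ w))
  replace hφ := hφ.resolve_right fun h => absurd h.1 (by norm_num)
  have hact : ∀ u, slAct ψ w u = semiSL g σ u := by
    have h := eq_of_agree_mod_center (a := (slAct ψ w).toMonoidHom) (b := (semiSL g σ).toMonoidHom)
      fun u => by
        have h1 := DFunLike.congr_fun hφ (toP u)
        rw [H56.autOf_toP, H56.semiAut_toP] at h1
        exact QuotientGroup.eq.1 h1.symm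
    exact fun u => DFunLike.congr_fun h u
  have hfix : ∀ k : ↥K, Commute w (k : H) ↔
      (g : Matrix (Fin 2) (Fin 2) F) * (smat (ψ k)).map σ = smat (ψ k) * g := fun k => by
    rw [← slAct_fix ψ, hact, semiSL_eq_iff]
  have hsemi : semiAut (g * glMap σ g) (σ.trans σ) = 1 := by
    rw [← H56.semiAut_mul]
    refine MulEquiv.ext fun x => ?_
    obtain ⟨u, rfl⟩ := H56.toP_surjective x
    show toP (semiSL g σ (semiSL g σ u)) = toP u
    rw [← hact, ← hact, ← slAct_mul, hw]
    simp [slAct]
  obtain ⟨hσσ', c, hgc⟩ := H56.eq_of_semiAut_eq_one le_rfl hsemi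
  have hσσ : ∀ x, σ (σ x) = x := fun x => RingEquiv.congr_fun hσσ' x
  have hgm : (g : Matrix (Fin 2) (Fin 2) F) * (g : Matrix (Fin 2) (Fin 2) F).map σ = (c : F) • 1 := by
    have := congrArg Units.val hgc
    rw [Units.val_mul, H56.glMap_coe, Matrix.GeneralLinearGroup.coe_scalar] at this
    rw [this]
    ext i j
    fin_cases i <;> fin_cases j <;> simp
  by_cases hσ : σ = RingEquiv.refl F
  · -- diagonal automorphisms
    subst hσ
    set p := (g : Matrix (Fin 2) (Fin 2) F) with hp
    have hgg : p * p = (c : F) • 1 := by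
      simpa using hgm
    have hns : ¬ IsSquare p.det := by
      intro hs
      obtain ⟨d, hd⟩ := hs
      have hd0 : d ≠ 0 := fun h => (Matrix.GeneralLinearGroup.det g).ne_zero (by
        rw [Matrix.GeneralLinearGroup.val_det_apply, ← hp, hd, h, mul_zero])
      let s : SLn 2 F := ⟨d⁻¹ • p, by
        rw [Matrix.det_smul, hd, Fintype.card_fin]
        field_simp⟩
      have hin : ∀ u : SLn 2 F, slAct ψ w u = s * u * s⁻¹ := fun u => by
        rw [hact, eq_mul_inv_iff_mul_eq]
        refine Subtype.ext ?_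
        show smat (semiSL g (RingEquiv.refl F) u) * (d⁻¹ • p) = (d⁻¹ • p) * smat u
        rw [Matrix.mul_smul, ← (semiSL_eq_iff.1 (rfl : semiSL g (RingEquiv.refl F) u = _)),
          Matrix.smul_mul]
        simp [hp]
      have hl : ∀ l ∈ K, Commute l ((ψ.symm s : H)⁻¹ * w) := fun l hl => by
        have h1 := congrArg (fun t => ((ψ.symm t : ↥K) : H)) (hin (ψ ⟨l, hl⟩))
        simp only [slAct, MulEquiv.trans_apply, ψ.symm_apply_apply, MulAut.conjNormal_apply, map_mul,
          map_inv, Subgroup.coe_mul, Subgroup.coe_inv] at h1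
        show l * ((ψ.symm s : H)⁻¹ * w) = (ψ.symm s : H)⁻¹ * w * l
        rw [mul_inv_eq_iff_eq_mul] at h1
        rw [mul_assoc _ w l, h1]
        group
      have hmem : (ψ.symm s : H)⁻¹ * w ∈ K := by
        rcases hcent _ hl with h | h
        · rw [h]; exact one_mem K
        · rw [h]; exact hzK
      have := mul_mem (SetLike.coe_mem (ψ.symm s)) hmem
      rw [mul_inv_cancel_left] at this
      exact hwK this
    have htr : p 1 1 = -p 0 0 := by
      by_contra h
      have ht : p 0 0 + p 1 1 ≠ 0 := fun h' => h (eq_neg_of_add_eq_zero_right h')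
      have e01 : p 0 0 * p 0 1 + p 0 1 * p 1 1 = 0 := by
        simpa [Matrix.mul_apply, Fin.sum_univ_two] using congrFun (congrFun hgg 0) 1
      have e00 : p 0 0 * p 0 0 + p 0 1 * p 1 0 = c := by
        simpa [Matrix.mul_apply, Fin.sum_univ_two] using congrFun (congrFun hgg 0) 0
      have e11 : p 1 0 * p 0 1 + p 1 1 * p 1 1 = c := by
        simpa [Matrix.mul_apply, Fin.sum_univ_two] using congrFun (congrFun hgg 1) 1
      have z01 : p 0 1 = 0 := (mul_eq_zero.1 (show p 0 1 * (p 0 0 + p 1 1) = 0 by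
        linear_combination e01)).resolve_right ht
      have zd : p 0 0 = p 1 1 := sub_eq_zero.1 ((mul_eq_zero.1
        (show (p 0 0 - p 1 1) * (p 0 0 + p 1 1) = 0 by linear_combination e00 - e11)).resolve_right ht)
      exact hns ⟨p 0 0, by rw [Matrix.det_fin_two, z01, ← zd]; ring⟩
    have hfix' : ∀ k : ↥K, Commute w (k : H) ↔ p * smat (ψ k) = smat (ψ k) * p := fun k => by
      rw [hfix]; simp [hp]
    have hnw : ∀ x ∈ K, x * x = z → ¬ Commute w x := by
      intro x hx hxx hc'
      obtain ⟨t, ht, -⟩ := det_eq_sq h2 htr (trace_zero (hsqz ⟨x, hx⟩ hxx))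
        ((hfix' ⟨x, hx⟩).1 hc').symm
      rw [(ψ ⟨x, hx⟩).det_coe, one_mul] at ht
      exact hns ⟨t, ht⟩
    obtain ⟨t, ht0, ht1⟩ := exists_avoid h3 (-p.det)
    have hden : 1 + p.det * t ^ 2 ≠ 0 := fun h => ht1 (by linear_combination -h)
    have hb : 2 * t / (1 + p.det * t ^ 2) ≠ 0 := div_ne_zero (mul_ne_zero h2 ht0) hden
    let C : SLn 2 F := ⟨((1 - p.det * t ^ 2) / (1 + p.det * t ^ 2)) • 1 +
        (2 * t / (1 + p.det * t ^ 2)) • p, by
      rw [Matrix.det_fin_two]
      simp [htr]
      field_simp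
      rw [Matrix.det_fin_two, htr]
      ring⟩
    have hCm : smat C = ((1 - p.det * t ^ 2) / (1 + p.det * t ^ 2)) • 1 +
        (2 * t / (1 + p.det * t ^ 2)) • p := rfl
    have hCp : p * smat C = smat C * p := by simp [hCm, mul_add, add_mul]
    set k := ψ.symm C with hk
    have hwk : Commute w (k : H) := (hfix' k).2 (by rw [hk, ψ.apply_symm_apply]; exact hCp)
    have h4 : ¬ 4 ∣ orderOf (k : H) := by
      rintro ⟨m, hm⟩
      have hpos : 0 < m := by
        have := orderOf_pos (k : H)
        omega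
      have hne : (k : H) ^ m * (k : H) ^ m ≠ 1 := by
        rw [← pow_add]
        exact pow_ne_one_of_lt_orderOf (by omega) (by omega)
      have hz' : (k : H) ^ m * (k : H) ^ m = z := by
        refine (hone _ (mul_mem (pow_mem k.2 _) (pow_mem k.2 _)) ?_).resolve_left hne
        rw [← pow_add, ← pow_add, show m + m + (m + m) = orderOf (k : H) by omega, pow_orderOf_eq_one]
      exact hnw _ (pow_mem k.2 _) hz' (hwk.pow_right m)
    have hodde : Odd (orderOf ((k : H) * k)) := by
      rw [← pow_two, orderOf_pow]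
      rcases Nat.even_or_odd (orderOf (k : H)) with ⟨m, hm⟩ | hm
      · rw [hm, ← two_mul, Nat.gcd_eq_right (dvd_mul_right 2 m), Nat.mul_div_cancel_left _ two_pos]
        exact Nat.not_even_iff_odd.1 fun ⟨r, hr⟩ => h4 ⟨r, by omega⟩
      · rw [(Nat.coprime_two_right.2 hm).gcd_eq_one, Nat.div_one]
        exact hm
    refine ⟨(k : H) * k, mul_mem k.2 k.2, hodde, hwk.mul_right hwk, ?_, Or.inr ⟨hnw, ?_⟩⟩
    · intro x hx hxx hex
      have hkx : Commute (k : H) x := by
        obtain ⟨r, hr⟩ := hodde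
        set o := orderOf ((k : H) * k) with ho
        have h1 : Commute ((k : H) ^ o * k) x := by
          rw [← pow_succ, show o + 1 = 2 * (r + 1) by omega, pow_mul, pow_two]
          exact hex.pow_left _
        have h2 : Commute ((k : H) ^ o) x := by
          rcases hone ((k : H) ^ o) (pow_mem k.2 _) (by
            rw [← (Commute.refl (k : H)).mul_pow, ho, pow_orderOf_eq_one]) with h | h <;> rw [h]
          · exact Commute.one_left x
          · exact hzc x
        have := h2.inv_left.mul_left h1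
        rwa [inv_mul_cancel_left] at this
      refine hnw x hx hxx ((hfix' ⟨x, hx⟩).2 ?_)
      have h := (hcomm k ⟨x, hx⟩).1 hkx
      rw [hk, ψ.apply_symm_apply] at h
      simp only [hCm, add_mul, mul_add, Matrix.smul_mul, Matrix.mul_smul, one_mul, mul_one] at h
      exact smul_right_injective _ hb (add_left_cancel h)
    · let J : SLn 2 F := ⟨!![0, 1; -1, 0], by simp [Matrix.det_fin_two_of]⟩
      refine ⟨_, (ψ.symm J).2, hofz _ ?_⟩
      rw [ψ.apply_symm_apply]
      ext i j
      fin_cases i <;> fin_cases j <;> simp [J, smat, Matrix.mul_apply, Fin.sum_univ_two]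
  · -- field automorphisms
    have hfixc : σ (c : F) = c := by
      have h2' : (g : Matrix (Fin 2) (Fin 2) F).map σ * (g : Matrix (Fin 2) (Fin 2) F) = (c : F) • 1 := by
        calc (g : Matrix (Fin 2) (Fin 2) F).map σ * g
            = ((g⁻¹ : GL (Fin 2) F) : Matrix (Fin 2) (Fin 2) F) *
                ((g : Matrix (Fin 2) (Fin 2) F) * (g : Matrix (Fin 2) (Fin 2) F).map σ) * g := by
              rw [← mul_assoc, ← Units.val_mul, inv_mul_cancel, Units.val_one, one_mul]
          _ = (c : F) • 1 := by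
              rw [hgm, Matrix.mul_smul, mul_one, Matrix.smul_mul, ← Units.val_mul, inv_mul_cancel,
                Units.val_one]
      have h3' := congrArg (fun M : Matrix (Fin 2) (Fin 2) F => M.map σ) hgm
      simp only [Matrix.map_mul, Matrix.map_map, show (⇑σ ∘ ⇑σ) = id from funext hσσ, Matrix.map_id] at h3'
      rw [h2'] at h3'
      simpa using (congrFun (congrFun h3' 0) 0).symm
    obtain ⟨N, hN0, hNN, hNt, hNd, hgN⟩ := exists_nilpotent σ hodd hσσ hσ g c.ne_zero hfixc hgm
    let U : SLn 2 F := ⟨1 + N, by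
      rw [Matrix.det_fin_two]
      rw [Matrix.det_fin_two] at hNd
      simp [hNt]
      rw [hNt] at hNd
      linear_combination hNd⟩
    set k := ψ.symm U with hk
    obtain ⟨p', hp', nn, hn', hcardF⟩ := FiniteField.card' F
    have hpodd : Odd p' := by
      rw [hcardF] at hodd
      exact (Nat.odd_pow_iff nn.pos.ne').1 hodd
    have hUpow : ∀ n : ℕ, smat (U ^ n) = 1 + (n : F) • N := by
      intro n
      induction n with
      | zero => simp [smat]
      | succ n ih =>
        rw [pow_succ]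
        show smat (U ^ n) * smat U = _
        rw [ih]
        show (1 + (n : F) • N) * (1 + N) = _
        rw [mul_add, mul_one, add_mul, one_mul, Matrix.smul_mul, hNN, smul_zero, add_zero, add_assoc]
        push_cast
        rw [add_smul, one_smul]
    have hkp : (k : H) ^ p' = 1 := by
      haveI := hp'
      have h1 : U ^ p' = 1 := Subtype.ext (by
        show smat (U ^ p') = 1
        rw [hUpow, CharP.cast_eq_zero F p', zero_smul, add_zero])
      have h2 : k ^ p' = 1 := by rw [hk, ← map_pow, h1, map_one]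
      exact congrArg Subtype.val h2
    refine ⟨(k : H), k.2, hpodd.of_dvd_nat (orderOf_dvd_of_pow_eq_one hkp),
      (hfix k).2 ?_, ?_, Or.inl ?_⟩
    · rw [hk, ψ.apply_symm_apply]
      show (g : Matrix (Fin 2) (Fin 2) F) * (1 + N).map σ = (1 + N) * g
      rw [Matrix.map_add σ (map_add σ), Matrix.map_one σ (map_zero σ) (map_one σ), mul_add, mul_one,
        add_mul, one_mul, hgN]
    · intro x hx hxx hex
      have h := (hcomm k ⟨x, hx⟩).1 hex
      rw [hk, ψ.apply_symm_apply] at h
      set y := smat (ψ ⟨x, hx⟩) with hy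
      change (1 + N) * y = y * (1 + N) at h
      rw [add_mul, mul_add, one_mul, mul_one] at h
      obtain ⟨t, ht, hyN⟩ := det_eq_sq h2 hNt (trace_zero (hsqz ⟨x, hx⟩ hxx)) (add_left_cancel h).symm
      rw [hNd, mul_zero] at ht
      rw [mul_self_eq_zero.1 ht.symm, zero_smul] at hyN
      refine hN0 ?_
      have h1 : y * (y * N) = 0 := by rw [hyN, mul_zero]
      rw [← mul_assoc, hsqz ⟨x, hx⟩ hxx, neg_mul, one_mul, neg_eq_zero] at h1
      exact h1
    · obtain ⟨j, hj⟩ := exists_fourth_root σ hodd hσσ hσ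
      have hj0 : j ≠ 0 := fun h => by rw [h] at hj; simp at hj
      let D : SLn 2 F := ⟨Matrix.diagonal ![j, j⁻¹], by simp [hj0]⟩
      have hD : smat (ψ ((ψ.symm D) ^ 2)) * smat (ψ ((ψ.symm D) ^ 2)) = -1 := by
        rw [map_pow, ψ.apply_symm_apply, pow_two]
        show (smat D * smat D) * (smat D * smat D) = -1
        simp only [D, smat, Matrix.diagonal_mul_diagonal]
        ext a b
        fin_cases a <;> fin_cases b <;> simp
        · linear_combination hj
        · field_simp
          linear_combination hj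
      have h4 : ((ψ.symm D : ↥K) : H) ^ 4 = z := by
        have h := hofz _ hD
        rw [Subgroup.coe_pow, ← pow_add] at h
        exact h
      refine ⟨_, (ψ.symm D).2, ?_, by rw [h4]; exact hz1⟩
      rw [show (8 : ℕ) = 4 + 4 from rfl, pow_add, h4, hz]

end Cfsg.Agent.H74.Quat
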